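import Groth.Agent.DerivedCoh.ExtZero.Basic
import Groth.Agent.DerivedCoh.KFlat.LTensorGen
import Groth.Prelude.Def_DCoh3
import Mathlib.CategoryTheory.Adjunction.Unique

/-!
The projection formula for extension by zero; restriction of internal Hom.
-/

universe u

open CategoryTheory CategoryTheory.Limits AlgebraicGeometry HomologicalComplex

namespace Groth.DerivedCoh.KFlat

variable {D : Type*} [Category* D] [Preadditive D] {D' : Type*} [Category* D'] [Preadditive D']
  [∀ J : Type, HasColimitsOfShape (Discrete J) D] [∀ J : Type, HasColimitsOfShape (Discrete J) D']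
  (G : D ⥤ D') [G.Additive] [∀ J : Type, PreservesColimitsOfShape (Discrete J) G]

local notation "up" => ComplexShape.up ℤ

lemma totalMapIso_natural {K L : HomologicalComplex₂ D up up} (φ : K ⟶ L) :
    HomologicalComplex₂.total.map ((mapBi G).map φ) up ≫ (totalMapIso G L).hom =
      (totalMapIso G K).hom ≫
        (G.mapHomologicalComplex up).map (HomologicalComplex₂.total.map φ up) := by
  refine HomologicalComplex.hom_ext _ _ fun n => HomologicalComplex₂.total.hom_ext _ fun p q h => ?_
  change _ ≫ (HomologicalComplex₂.total.map ((mapBi G).map φ) up).f n ≫ (totalMapXIso G L n).hom =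
    _ ≫ (totalMapXIso G K n).hom ≫ G.map ((HomologicalComplex₂.total.map φ up).f n)
  rw [HomologicalComplex₂.ιTotal_map_assoc, ι_totalMapXIso_hom, ι_totalMapXIso_hom_assoc]
  have e : K.ιTotal up p q n h ≫ (HomologicalComplex₂.total.map φ up).f n =
      (φ.f p).f q ≫ L.ιTotal up p q n h := by simp
  exact ((congrArg G.map e).trans (G.map_comp _ _)).symm.trans (G.map_comp _ _)

end Groth.DerivedCoh.KFlat

namespace Groth.DerivedCoh.ExtZero

open Groth.DerivedCoh.KFlat (T IsKFlat tot totL totR Bi pullCx)

attribute [local instance] HasDerivedCategory.standard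

variable {U X : Scheme.{u}} (j : U ⟶ X) [IsOpenImmersion j]

local notation "up" => ComplexShape.up ℤ

/-- restriction is a tensor functor -/
noncomputable def restrTensor (A B : X.Modules) :
    ((T U).obj ((Scheme.Modules.restrictFunctor j).obj A)).obj
        ((Scheme.Modules.restrictFunctor j).obj B) ≅
      (Scheme.Modules.restrictFunctor j).obj (((T X).obj A).obj B) :=
  ((T U).mapIso ((Scheme.Modules.restrictFunctorIsoPullback j).app A)).app _ ≪≫
    ((T U).obj _).mapIso ((Scheme.Modules.restrictFunctorIsoPullback j).app B) ≪≫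
    (KFlat.pullTensor j A B).symm ≪≫
    ((Scheme.Modules.restrictFunctorIsoPullback j).app _).symm

lemma restrTensor_right (A : X.Modules) {B B' : X.Modules} (g : B ⟶ B') :
    ((T U).obj ((Scheme.Modules.restrictFunctor j).obj A)).map
        ((Scheme.Modules.restrictFunctor j).map g) ≫ (restrTensor j A B').hom =
      (restrTensor j A B).hom ≫ (Scheme.Modules.restrictFunctor j).map (((T X).obj A).map g) := by
  have h₁ := (Scheme.Modules.restrictFunctorIsoPullback j).hom.naturality g
  have h₂ := (Scheme.Modules.restrictFunctorIsoPullback j).inv.naturality (((T X).obj A).map g)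
  have h₃ : (KFlat.pullTensor j A B).inv ≫ (Scheme.Modules.pullback j).map (((T X).obj A).map g) =
      ((T U).obj ((Scheme.Modules.pullback j).obj A)).map ((Scheme.Modules.pullback j).map g) ≫
        (KFlat.pullTensor j A B').inv := by
    rw [Iso.inv_comp_eq, ← Category.assoc, ← KFlat.pullTensor_right, Category.assoc]
    simp
  simp only [restrTensor, Iso.trans_hom, Iso.app_hom, Functor.mapIso_hom, Iso.symm_hom,
    Iso.app_inv, Category.assoc]
  rw [← h₂, reassoc_of% h₃]
  simp only [← Category.assoc]
  congr 2
  rw [NatTrans.naturality, Category.assoc, Category.assoc, ← Functor.map_comp, h₁, Functor.map_comp]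

lemma restrTensor_left {A A' : X.Modules} (g : A ⟶ A') (B : X.Modules) :
    ((T U).map ((Scheme.Modules.restrictFunctor j).map g)).app
        ((Scheme.Modules.restrictFunctor j).obj B) ≫ (restrTensor j A' B).hom =
      (restrTensor j A B).hom ≫ (Scheme.Modules.restrictFunctor j).map (((T X).map g).app B) := by
  have h₁ := (Scheme.Modules.restrictFunctorIsoPullback j).hom.naturality g
  have h₂ := (Scheme.Modules.restrictFunctorIsoPullback j).inv.naturality (((T X).map g).app B)
  have h₃ : (KFlat.pullTensor j A B).inv ≫ (Scheme.Modules.pullback j).map (((T X).map g).app B) =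
      ((T U).map ((Scheme.Modules.pullback j).map g)).app ((Scheme.Modules.pullback j).obj B) ≫
        (KFlat.pullTensor j A' B).inv := by
    rw [Iso.inv_comp_eq, ← Category.assoc, ← KFlat.pullTensor_left, Category.assoc]
    simp
  simp only [restrTensor, Iso.trans_hom, Iso.app_hom, Functor.mapIso_hom, Iso.symm_hom,
    Iso.app_inv, Category.assoc]
  rw [← h₂, reassoc_of% h₃]
  simp only [← Category.assoc]
  congr 2
  simp only [Category.assoc]
  rw [NatTrans.naturality]
  simp only [← Category.assoc]
  rw [← NatTrans.comp_app, ← Functor.map_comp, h₁, Functor.map_comp, NatTrans.comp_app]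

/-- the projection map -/
noncomputable def projHom (P : U.Modules) (N : X.Modules) :
    (CxOX.extZero j).obj (((T U).obj P).obj ((Scheme.Modules.restrictFunctor j).obj N)) ⟶
      ((T X).obj ((CxOX.extZero j).obj P)).obj N :=
  ((CxOX.extZeroAdj j).homEquiv _ _).symm
    (((T U).map ((CxOX.extZeroAdj j).unit.app P)).app _ ≫ (restrTensor j _ N).hom)

lemma projHom_left {P P' : U.Modules} (f : P ⟶ P') (N : X.Modules) :
    (CxOX.extZero j).map (((T U).map f).app _) ≫ projHom j P' N =
      projHom j P N ≫ ((T X).map ((CxOX.extZero j).map f)).app N := by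
  rw [projHom, projHom, ← Adjunction.homEquiv_naturality_left_symm,
    ← Adjunction.homEquiv_naturality_right_symm]
  congr 1
  rw [Category.assoc, ← restrTensor_left, ← NatTrans.comp_app_assoc, ← NatTrans.comp_app_assoc,
    ← Functor.map_comp, ← Functor.map_comp]
  congr 3
  exact (CxOX.extZeroAdj j).unit.naturality f

lemma projHom_right (P : U.Modules) {N N' : X.Modules} (g : N ⟶ N') :
    (CxOX.extZero j).map (((T U).obj P).map ((Scheme.Modules.restrictFunctor j).map g)) ≫
        projHom j P N' =
      projHom j P N ≫ ((T X).obj ((CxOX.extZero j).obj P)).map g := by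
  rw [projHom, projHom, ← Adjunction.homEquiv_naturality_left_symm,
    ← Adjunction.homEquiv_naturality_right_symm]
  congr 1
  rw [Category.assoc, ← restrTensor_right, NatTrans.naturality_assoc]
  rfl

lemma isZero_stalk_tensor {M : X.Modules} (N : X.Modules) {x : X}
    (h : IsZero ((Groth.QCohMod.stalk x).obj M)) :
    IsZero ((Groth.QCohMod.stalk x).obj (((T X).obj M).obj N)) := by
  have h' : IsZero ((KFlat.stk x).obj M) := by
    have := AddCommGrpCat.subsingleton_of_isZero h
    exact @ModuleCat.isZero_of_subsingleton _ _ ((KFlat.stk x).obj M) this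
  have h'' : IsZero ((KFlat.stk x).obj (((T X).obj M).obj N)) :=
    ((MonoidalCategory.tensorRight ((KFlat.stk x).obj N)).map_isZero h').of_iso
      ((KFlat.tensorFlipStkIso N x).app M)
  exact (forget₂ (ModuleCat.{u} (X.presheaf.stalk x)) AddCommGrpCat.{u}).map_isZero h''

instance isIso_projHom (P : U.Modules) (N : X.Modules) : IsIso (projHom j P N) := by
  have := isIso_unit j P
  have := isIso_unit j (((T U).obj P).obj ((Scheme.Modules.restrictFunctor j).obj N))
  have h : IsIso ((Scheme.Modules.restrictFunctor j).map (projHom j P N)) := by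
    have h' : (CxOX.extZeroAdj j).unit.app _ ≫
        (Scheme.Modules.restrictFunctor j).map (projHom j P N) =
        ((T U).map ((CxOX.extZeroAdj j).unit.app P)).app _ ≫ (restrTensor j _ N).hom := by
      exact ((CxOX.extZeroAdj j).homEquiv_unit _ _ (projHom j P N)).symm.trans
        (Equiv.apply_symm_apply _ _)
    rw [← IsIso.eq_inv_comp] at h'
    rw [h']
    infer_instance
  exact isIso_of_restrict j _ (fun x hx => isZero_stalk_obj j _ hx)
    fun x hx => isZero_stalk_tensor N (isZero_stalk_obj j P hx)

/-- restriction of complexes -/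
noncomputable abbrev resCx : CochainComplex X.Modules ℤ ⥤ CochainComplex U.Modules ℤ :=
  (Scheme.Modules.restrictFunctor j).mapHomologicalComplex up

/-- extension by zero of complexes -/
noncomputable abbrev ezCx : CochainComplex U.Modules ℤ ⥤ CochainComplex X.Modules ℤ :=
  (CxOX.extZero j).mapHomologicalComplex up

/-- the bicomplexes -/
noncomputable def projBiIso (K : CochainComplex X.Modules ℤ) :
    (Bi (T U)).flip.obj ((resCx j).obj K) ⋙ KFlat.mapBi (CxOX.extZero j) ≅
      ezCx j ⋙ (Bi (T X)).flip.obj K :=
  NatIso.ofComponents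
    (fun P => HomologicalComplex.Hom.isoOfComponents
      (fun p => HomologicalComplex.Hom.isoOfComponents (fun q => @asIso _ _ _ _ (projHom j (P.X p) (K.X q)) (isIso_projHom j (P.X p) (K.X q)))
        fun q q' _ => (projHom_right j (P.X p) (K.d q q')).symm)
      fun p p' _ => HomologicalComplex.hom_ext _ _ fun q =>
        (projHom_left j (P.d p p') (K.X q)).symm)
    fun {P P'} f => HomologicalComplex.hom_ext _ _ fun p => HomologicalComplex.hom_ext _ _ fun q =>
      projHom_left j (f.f p) (K.X q)

instance (J : Type) : PreservesColimitsOfShape (Discrete J) (CxOX.extZero j) := inferInstance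

/-- the projection formula for complexes -/
noncomputable def projTotIso (K : CochainComplex X.Modules ℤ) :
    totL (T U) ((resCx j).obj K) ⋙ ezCx j ≅ ezCx j ⋙ totL (T X) K :=
  Functor.isoWhiskerRight (KFlat.totLIso (T U) ((resCx j).obj K)) (ezCx j) ≪≫
    Functor.associator _ _ _ ≪≫
    Functor.isoWhiskerLeft _ (NatIso.ofComponents
      (fun B => (KFlat.totalMapIso (CxOX.extZero j) B).symm) fun {B B'} φ => by
        change _ ≫ (KFlat.totalMapIso _ B').inv = (KFlat.totalMapIso _ B).inv ≫ _
        refine (Iso.comp_inv_eq _).2 ?_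
        refine Eq.trans ?_ (Category.assoc _ _ _).symm
        refine (Iso.eq_inv_comp _).2 ?_
        exact (KFlat.totalMapIso_natural (CxOX.extZero j) φ).symm :
      HomologicalComplex₂.totalFunctor U.Modules up up up ⋙ ezCx j ≅
        KFlat.mapBi (CxOX.extZero j) ⋙ HomologicalComplex₂.totalFunctor X.Modules up up up) ≪≫
    (Functor.associator _ _ _).symm ≪≫ Functor.isoWhiskerRight (projBiIso j K) _ ≪≫
    Functor.associator _ _ _ ≪≫ Functor.isoWhiskerLeft _ (KFlat.totLIso (T X) K).symm

/-- extension by zero preserves K-flatness on the left -/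
lemma isKFlat_flip_ezCx (P : CochainComplex U.Modules ℤ) (hP : IsKFlat (T U).flip P) :
    IsKFlat (T X).flip ((ezCx j).obj P) := by
  rw [KFlat.isKFlat_flip_iff] at hP ⊢
  intro M hM
  refine fun i => ExactAt.of_iso ?_ ((projTotIso j M).app P)
  have hM' : ((resCx j).obj M).Acyclic := fun k => (hM k).map (Scheme.Modules.restrictFunctor j)
  exact (hP _ hM' i).map (CxOX.extZero j)

variable [PreservesFiniteLimits (Scheme.Modules.restrictFunctor j)]
  [PreservesFiniteLimits (CxOX.extZero j)]

/-- the projection formula on derived categories -/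
noncomputable def projDIso (K : CochainComplex X.Modules ℤ) [DCoh.HasLTensorCx K]
    [DCoh.HasLTensorCx ((resCx j).obj K)] :
    DCoh.LTensorCx ((resCx j).obj K) ⋙ CxOX.extZeroD j ≅ CxOX.extZeroD j ⋙ DCoh.LTensorCx K :=
  haveI : ∀ C, IsIso ((Functor.whiskerRight (KFlat.flatResolutionAug U) DerivedCategory.Q).app C) :=
    fun C => (DerivedCategory.isIso_Q_map_iff_quasiIso _ _).2 (KFlat.flatResolution_quasiIso C)
  haveI := NatIso.isIso_of_isIso_app
    (Functor.whiskerRight (KFlat.flatResolutionAug U) DerivedCategory.Q)
  haveI : ∀ C, IsIso ((Functor.whiskerLeft (KFlat.flatResolution U ⋙ ezCx j)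
      (KFlat.ltcxCounit K)).app C) :=
    fun C => KFlat.isIso_ltcxCounit_app K _
      (isKFlat_flip_ezCx j _ (KFlat.flatResolution_isKFlat_flip C))
  haveI := NatIso.isIso_of_isIso_app (Functor.whiskerLeft (KFlat.flatResolution U ⋙ ezCx j)
    (KFlat.ltcxCounit K))
  Localization.liftNatIso DerivedCategory.Q (HomologicalComplex.quasiIso U.Modules up)
    (DerivedCategory.Q ⋙ DCoh.LTensorCx ((resCx j).obj K) ⋙ CxOX.extZeroD j)
    (DerivedCategory.Q ⋙ CxOX.extZeroD j ⋙ DCoh.LTensorCx K) _ _
    ((Functor.associator _ _ _).symm ≪≫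
      Functor.isoWhiskerRight (KFlat.ltcxResIso ((resCx j).obj K)) (CxOX.extZeroD j) ≪≫
      Functor.associator _ _ _ ≪≫
      Functor.isoWhiskerLeft (KFlat.flatResolution U) (Functor.associator _ _ _ ≪≫
        Functor.isoWhiskerLeft (totL (T U) ((resCx j).obj K))
          (CxOX.extZero j).mapDerivedCategoryFactors ≪≫
        (Functor.associator _ _ _).symm ≪≫
        Functor.isoWhiskerRight (projTotIso j K) DerivedCategory.Q ≪≫
        Functor.associator _ _ _) ≪≫
      (Functor.associator _ _ _).symm ≪≫
      (asIso (Functor.whiskerLeft (KFlat.flatResolution U ⋙ ezCx j) (KFlat.ltcxCounit K))).symm ≪≫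
      (Functor.associator _ _ _).symm ≪≫
      Functor.isoWhiskerRight
        (Functor.associator _ _ _ ≪≫
          Functor.isoWhiskerLeft (KFlat.flatResolution U)
            (CxOX.extZero j).mapDerivedCategoryFactors.symm ≪≫
          (Functor.associator _ _ _).symm ≪≫
          Functor.isoWhiskerRight
            (asIso (Functor.whiskerRight (KFlat.flatResolutionAug U) DerivedCategory.Q))
            (CxOX.extZeroD j)) (DCoh.LTensorCx K) ≪≫
      Functor.associator _ _ _)

/-- restriction commutes with internal Hom -/
noncomputable def restrRHomIso (K : CochainComplex X.Modules ℤ) [DCoh.HasLTensorCx K]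
    [DCoh.HasRSheafHom K] [DCoh.HasLTensorCx ((resCx j).obj K)]
    [DCoh.HasRSheafHom ((resCx j).obj K)] :
    DCoh.RSheafHom K ⋙ DCoh.restrictD j ≅
      DCoh.restrictD j ⋙ DCoh.RSheafHom ((resCx j).obj K) :=
  ((extZeroDAdj j).comp (DCoh.RSheafHomAdj K)).rightAdjointUniq
    (((DCoh.RSheafHomAdj ((resCx j).obj K)).comp (extZeroDAdj j)).ofNatIsoLeft (projDIso j K))

end Groth.DerivedCoh.ExtZero
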