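import Groth.Agent.CohTwo.ExtZero
import Groth.Agent.CohTwo.ColimStalk
import Groth.Agent.QCohMod.Stalk
import Groth.Prelude.Def_DCoh3
import Mathlib.CategoryTheory.Adjunction.Triple
import Mathlib.CategoryTheory.Localization.Adjunction

/-!
Extension by zero along an open immersion: stalks, exactness, derived adjunction.
-/

universe u

open CategoryTheory CategoryTheory.Limits AlgebraicGeometry

namespace Groth.DerivedCoh.ExtZero

attribute [local instance] HasDerivedCategory.standard

variable {U X : Scheme.{u}} (j : U ⟶ X) [IsOpenImmersion j]

local notation "up" => ComplexShape.up ℤ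

/-- `j_! ⊣ j^* ⊣ j_*` -/
noncomputable def triple :
    Adjunction.Triple (CxOX.extZero j) (Scheme.Modules.restrictFunctor j)
      (Scheme.Modules.pushforward j) :=
  ⟨CxOX.extZeroAdj j, Scheme.Modules.restrictAdjunction j⟩

/-- `P ≅ j^* j_! P` -/
theorem isIso_unit (P : U.Modules) : IsIso ((CxOX.extZeroAdj j).unit.app P) := by
  have h : IsIso (Scheme.Modules.restrictAdjunction j).counit := inferInstance
  have : IsIso (CxOX.extZeroAdj j).unit :=
    (triple j).isIso_unit_iff_isIso_counit.2 h
  infer_instance

/-- `j_!P` lives on the image of `j` -/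
theorem isZero_stalk_obj (P : U.Modules) {x : X} (hx : x ∉ j.opensRange) :
    IsZero ((Groth.QCohMod.stalk x).obj ((CxOX.extZero j).obj P)) := by
  let C := (Scheme.Modules.pushforward j).obj P
  let e : (CxOX.extZero j).obj P ≅ Groth.CohTwo.below C j.opensRange :=
    (CxOX.extZero j).mapIso (asIso ((Scheme.Modules.restrictAdjunction j).counit.app P)).symm ≪≫
      Groth.CohTwo.extZeroIsoBelow j C
  have := Groth.CohTwo.subsingleton_stalk_below C hx
  exact IsZero.of_iso (@AddCommGrpCat.isZero_of_subsingleton
    ((Groth.QCohMod.stalk x).obj (Groth.CohTwo.below C j.opensRange)) this) ((Groth.QCohMod.stalk x).mapIso e)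

/-- detecting isomorphisms of sheaves supported on the image -/
theorem isIso_of_restrict {M N : X.Modules} (φ : M ⟶ N)
    [IsIso ((Scheme.Modules.restrictFunctor j).map φ)]
    (hM : ∀ x ∉ j.opensRange, IsZero ((Groth.QCohMod.stalk x).obj M))
    (hN : ∀ x ∉ j.opensRange, IsZero ((Groth.QCohMod.stalk x).obj N)) : IsIso φ := by
  refine Groth.QCohMod.isIso_of_stalk φ fun x => ?_
  by_cases hx : x ∈ j.opensRange
  · obtain ⟨u, rfl⟩ := hx
    exact ((NatIso.isIso_map_iff (Scheme.Modules.restrictStalkNatIso j u) φ).1
      (inferInstanceAs (IsIso ((Groth.QCohMod.stalk u).map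
        ((Scheme.Modules.restrictFunctor j).map φ)))))
  · exact isIso_of_source_target_iso_zero _ (hM x hx).isoZero (hN x hx).isoZero

instance mono_extZero_map {P P' : U.Modules} (f : P ⟶ P') [Mono f] :
    Mono ((CxOX.extZero j).map f) := by
  rw [Groth.QCohMod.mono_iff_stalk]
  intro x
  by_cases hx : x ∈ j.opensRange
  · obtain ⟨u, rfl⟩ := hx
    have := isIso_unit j P
    have := isIso_unit j P'
    have h₁ : Mono ((Scheme.Modules.restrictFunctor j).map ((CxOX.extZero j).map f)) := by
      have e : f ≫ (CxOX.extZeroAdj j).unit.app P' = (CxOX.extZeroAdj j).unit.app P ≫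
          (Scheme.Modules.restrictFunctor j).map ((CxOX.extZero j).map f) :=
        (CxOX.extZeroAdj j).unit.naturality f
      rw [← IsIso.inv_comp_eq] at e
      rw [← e]
      infer_instance
    have h₂ : Mono ((Groth.QCohMod.stalk u).map
        ((Scheme.Modules.restrictFunctor j).map ((CxOX.extZero j).map f))) := inferInstance
    exact (AddCommGrpCat.mono_iff_injective _).1 (show Mono ((Groth.QCohMod.stalk (j u)).map _) from
      ((MorphismProperty.monomorphisms _).arrow_mk_iso_iff
      (Arrow.isoMk' _ _ ((Scheme.Modules.restrictStalkNatIso j u).app _)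
        ((Scheme.Modules.restrictStalkNatIso j u).app _)
        ((Scheme.Modules.restrictStalkNatIso j u).hom.naturality _).symm)).1 h₂)
  · exact fun a b _ =>
      @Subsingleton.elim _ (AddCommGrpCat.subsingleton_of_isZero (isZero_stalk_obj j P hx)) a b

instance preservesFiniteLimits_extZero : PreservesFiniteLimits (CxOX.extZero j) := by
  refine (Functor.preservesFiniteLimits_iff_forall_exact_map_and_mono _).2 fun S hS => ⟨?_, ?_⟩
  · exact ((Functor.preservesFiniteColimits_iff_forall_exact_map_and_epi _).1 inferInstance S hS).1
  · have := hS.mono_f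
    infer_instance

section Adj

variable {A B : Type*} [Category* A] [Category* B] [Abelian A] [Abelian B]
  {F : A ⥤ B} {G : B ⥤ A} [F.Additive] [G.Additive] (adj : F ⊣ G)

/-- an adjunction induces one on cochain complexes -/
noncomputable def cxAdj : F.mapHomologicalComplex up ⊣ G.mapHomologicalComplex up :=
  Adjunction.mk'
    { homEquiv := fun K L =>
        { toFun := fun φ =>
            { f := fun i => adj.homEquiv _ _ (φ.f i)
              comm' := fun i k _ => by
                refine ((adj.homEquiv_naturality_right _ _).symm.trans ?_).trans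
                  (adj.homEquiv_naturality_left _ _)
                exact congrArg _ (φ.comm i k) }
          invFun := fun ψ =>
            { f := fun i => (adj.homEquiv _ _).symm (ψ.f i)
              comm' := fun i k _ => by
                refine ((adj.homEquiv_naturality_right_symm _ _).symm.trans ?_).trans
                  (adj.homEquiv_naturality_left_symm _ _)
                exact congrArg _ (ψ.comm i k) }
          left_inv := fun φ => HomologicalComplex.hom_ext _ _ fun i => Equiv.symm_apply_apply _ _
          right_inv := fun ψ => HomologicalComplex.hom_ext _ _ fun i => Equiv.apply_symm_apply _ _ }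
      unit :=
        { app := fun K => { f := fun i => adj.unit.app _, comm' := fun _ _ _ => (adj.unit.naturality _).symm }
          naturality := fun _ _ g => HomologicalComplex.hom_ext _ _ fun i => adj.unit.naturality (g.f i) }
      counit :=
        { app := fun K => { f := fun i => adj.counit.app _, comm' := fun _ _ _ => (adj.counit.naturality _).symm }
          naturality := fun _ _ g => HomologicalComplex.hom_ext _ _ fun i => adj.counit.naturality (g.f i) }
      homEquiv_unit := fun {K L φ} => HomologicalComplex.hom_ext _ _ fun i => adj.homEquiv_unit _ _ _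
      homEquiv_counit := fun {K L ψ} => HomologicalComplex.hom_ext _ _ fun i => adj.homEquiv_counit _ _ _ }

/-- an adjunction of exact functors induces one on derived categories -/
noncomputable def derAdj [HasDerivedCategory A] [HasDerivedCategory B]
    [PreservesFiniteLimits F] [PreservesFiniteColimits F]
    [PreservesFiniteLimits G] [PreservesFiniteColimits G] :
    F.mapDerivedCategory ⊣ G.mapDerivedCategory :=
  haveI : CatCommSq (F.mapHomologicalComplex up) DerivedCategory.Q DerivedCategory.Q
      F.mapDerivedCategory := ⟨F.mapDerivedCategoryFactors.symm⟩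
  haveI : CatCommSq (G.mapHomologicalComplex up) DerivedCategory.Q DerivedCategory.Q
      G.mapDerivedCategory := ⟨G.mapDerivedCategoryFactors.symm⟩
  (cxAdj adj).localization DerivedCategory.Q (HomologicalComplex.quasiIso A up)
    DerivedCategory.Q (HomologicalComplex.quasiIso B up) _ _

end Adj

/-- `j_! ⊣ (-)|_U` on derived categories -/
noncomputable def extZeroDAdj [PreservesFiniteLimits (Scheme.Modules.restrictFunctor j)]
    [PreservesFiniteLimits (CxOX.extZero j)] : CxOX.extZeroD j ⊣ DCoh.restrictD j :=
  derAdj (CxOX.extZeroAdj j)

end Groth.DerivedCoh.ExtZero
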